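import Groth.Agent.UnibNormal5.Nrm
import Groth.Agent.Codepth5.OpenRk
import Groth.Agent.UnibEtale.Basic
import Groth.Agent.AlgSpDec.BirationalIso
import Groth.Agent.S4366
import Groth.Agent.S9759
import Groth.Agent.S2730

/-!
# Points at which a morphism is normal over geometrically unibranch points are geometrically unibranch
-/

set_option autoImplicit false
set_option linter.style.haveILetI false
set_option backward.isDefEq.respectTransparency false
set_option backward.isDefEq.respectTransparency.types false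

universe u

open CategoryTheory CategoryTheory.Limits AlgebraicGeometry TopologicalSpace TensorProduct

namespace Groth.Agent.UnibNormal5

open Codepth5

/-- The affine case over a Noetherian model. -/
theorem isGeomUnibranch_of_model {X₀ : Scheme.{u}} [IsAffine X₀] {A₀ : CommRingCat.{u}} [IsNoetherianRing A₀]
    (f₀ : X₀ ⟶ Spec A₀) [LocallyOfFiniteType f₀] [Flat f₀] {X S : Scheme.{u}} {f : X ⟶ S}
    {g : S ⟶ Spec A₀} {g' : X ⟶ X₀} (sq : IsPullback g' f f₀ g) (x : X) (h : Nrm f x)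
    (hY : CAlg2.IsGeomUnibranch (S.presheaf.stalk (f x))) : CAlg2.IsGeomUnibranch (X.presheaf.stalk x) := by
  haveI : LocallyOfFinitePresentation f₀ := FibreLoc5.lfp_of_noetherian' f₀
  let W₀ : X₀.Opens := ⟨{z | (f₀.stalkMap z).hom.Flat ∧ RkCond f₀ 1 z ∧ FibP (SkR 2) f₀ z}, isOpen_normal f₀⟩
  have hx₀ : g' x ∈ W₀ := ⟨Flat.stalkMap f₀ _, rkCond_of_nrm f₀ _ (h.descend sq)⟩
  obtain ⟨D, hD, hxD, hDW⟩ := exists_isAffineOpen_mem_and_subset (U := W₀) (x := g' x) hx₀
  obtain ⟨φ, hφ⟩ := Spec.map_surjective (hD.fromSpec ≫ f₀)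
  let A' := Γ(X₀, D)
  letI : Algebra A₀ A' := φ.hom.toAlgebra
  haveI : LocallyOfFiniteType (Spec.map φ) := by rw [hφ]; infer_instance
  haveI : Algebra.FiniteType A₀ A' := (HasRingHomProperty.Spec_iff (P := @LocallyOfFiniteType)).1 ‹_›
  haveI : IsNoetherianRing A' := Algebra.FiniteType.isNoetherianRing A₀ A'
  haveI : Flat (Spec.map φ) := by rw [hφ]; infer_instance
  haveI : Module.Flat A₀ A' := Flat.SpecMap_iff.1 ‹_›
  have hnh : EGA4.IsNormalHom A₀ A' := isNormalHom_of_nrm A₀ A' fun z => by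
    have w : Spec.map (CommRingCat.ofHom (algebraMap A₀ A')) ≫ 𝟙 _ = hD.fromSpec ≫ f₀ :=
      (Category.comp_id _).trans hφ
    refine Nrm.restrict w (nrm_of_rkCond f₀ _ (hDW ?_).2)
    exact (Set.ext_iff.1 hD.range_fromSpec _).1 (Set.mem_range_self z)
  obtain ⟨ψ, hψ⟩ := Spec.map_surjective (S.fromSpecStalk (f x) ≫ g)
  let B := S.presheaf.stalk (f x)
  letI : Algebra A₀ B := ψ.hom.toAlgebra
  haveI := S4366.flat_fromSpecStalk (f x)
  let P₁ := pullback f (S.fromSpecStalk (f x))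
  have sq₁ : IsPullback (pullback.fst f (S.fromSpecStalk (f x)) ≫ g') (pullback.snd f (S.fromSpecStalk (f x))) f₀
      (S.fromSpecStalk (f x) ≫ g) := (IsPullback.of_hasPullback _ _).paste_horiz sq
  let Z := pullback hD.fromSpec (pullback.fst f (S.fromSpecStalk (f x)) ≫ g')
  have sq₂ : IsPullback (pullback.fst hD.fromSpec (pullback.fst f (S.fromSpecStalk (f x)) ≫ g'))
      (pullback.snd hD.fromSpec (pullback.fst f (S.fromSpecStalk (f x)) ≫ g') ≫ pullback.snd f (S.fromSpecStalk (f x)))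
      (Spec.map (CommRingCat.ofHom (algebraMap A₀ A'))) (Spec.map (CommRingCat.ofHom (algebraMap A₀ B))) := by
    show IsPullback _ _ (Spec.map φ) (Spec.map ψ)
    rw [hφ, hψ]
    exact (IsPullback.of_hasPullback hD.fromSpec _).paste_vert sq₁
  let e := sq₂.flip.isoPullback ≪≫ pullbackSpecIso A₀ B A'
  let l : Z ⟶ X := pullback.snd _ _ ≫ pullback.fst f (S.fromSpecStalk (f x))
  haveI : IsPreimmersion (pullback.fst f (S.fromSpecStalk (f x))) :=
    MorphismProperty.pullback_fst _ _ inferInstance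
  haveI : IsPreimmersion l := inferInstance
  haveI : Flat l := inferInstance
  obtain ⟨p, hp₁, hp₂⟩ := Scheme.Pullback.exists_preimage_pullback (f := f) (g := S.fromSpecStalk (f x)) x
    (IsLocalRing.closedPoint B) Scheme.fromSpecStalk_closedPoint.symm
  obtain ⟨d, hd⟩ : ∃ d, hD.fromSpec d = g' x := by
    have : g' x ∈ Set.range hD.fromSpec := by rw [hD.range_fromSpec]; exact hxD
    exact this
  obtain ⟨z, -, hz⟩ := Scheme.Pullback.exists_preimage_pullback (f := hD.fromSpec)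
    (g := pullback.fst f (S.fromSpecStalk (f x)) ≫ g') d p (by rw [hd, Scheme.Hom.comp_apply, hp₁])
  have hlz : l z = x := by rw [Scheme.Hom.comp_apply, hz, hp₁]
  let q : PrimeSpectrum (B ⊗[A₀] A') := e.hom z
  have hq : q.asIdeal.comap (algebraMap B (B ⊗[A₀] A')) = IsLocalRing.maximalIdeal B := by
    show (PrimeSpectrum.comap (algebraMap B (B ⊗[A₀] A')) q).asIdeal = _
    have h1 : (e.hom ≫ Spec.map (CommRingCat.ofHom (algebraMap B (B ⊗[A₀] A')))) =
        pullback.snd hD.fromSpec _ ≫ pullback.snd f (S.fromSpecStalk (f x)) := by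
      simp only [e, Iso.trans_hom, Category.assoc, pullbackSpecIso_hom_fst', IsPullback.isoPullback_hom_fst]
    have h2 := congrArg (fun m : Z ⟶ Spec (CommRingCat.of B) => m z) h1
    have h3 : (pullback.snd hD.fromSpec _ ≫ pullback.snd f (S.fromSpecStalk (f x))) z = IsLocalRing.closedPoint B := by
      rw [Scheme.Hom.comp_apply, hz]
      exact hp₂
    exact congrArg PrimeSpectrum.asIdeal (h2.trans h3)
  have hg := (S2730.result A₀ A' hnh B hY q.asIdeal hq).1
  haveI : IsIso (l.stalkMap z) := AlgSpDec.Birational.isIso_stalkMap_of_flat_preimmersion l z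
  rw [← hlz]
  exact UnibEtale.isGeomUnibranch_of_ringEquiv
    ((Spec.stalkIso (CommRingCat.of (B ⊗[A₀] A')) q).commRingCatIsoToRingEquiv.symm.trans
      ((asIso (e.hom.stalkMap z)).commRingCatIsoToRingEquiv.trans
        (asIso (l.stalkMap z)).commRingCatIsoToRingEquiv.symm)) hg

/-- Normal morphisms preserve geometric unibranchness. -/
theorem isGeomUnibranch_of_normalAt {X Y : Scheme.{u}} (f : X ⟶ Y) [LocallyOfFinitePresentation f] (x : X)
    (hY : CAlg2.IsGeomUnibranch (Y.presheaf.stalk (f x))) (hflat : (f.stalkMap x).hom.Flat)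
    (h : RkCond f 1 x ∧ FibP (SkR 2) f x) : CAlg2.IsGeomUnibranch (X.presheaf.stalk x) := by
  let W : X.Opens := ⟨{z | (f.stalkMap z).hom.Flat}, FlatLocus.isOpen_flat_locus f⟩
  obtain ⟨V, hV, hxV, -⟩ := exists_isAffineOpen_mem_and_subset (U := (⊤ : Y.Opens)) (x := f x) trivial
  obtain ⟨U, hU, hxU, hUW⟩ := exists_isAffineOpen_mem_and_subset (U := W ⊓ f ⁻¹ᵁ V) (x := x) ⟨hflat, hxV⟩
  have hle : U ≤ f ⁻¹ᵁ V := fun z hz => (hUW hz).2
  let fU := f.resLE V U hle
  haveI : Flat (U.ι ≫ f) := Flat.of_stalkMap _ fun z => by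
    rw [Scheme.Hom.stalkMap_comp, CommRingCat.hom_comp]
    exact RingHom.Flat.comp (hUW z.2).1 (Flat.stalkMap U.ι z)
  have hsq : IsPullback (𝟙 _) fU (U.ι ≫ f) V.ι :=
    ⟨⟨by rw [Category.id_comp, Scheme.Hom.resLE_comp_ι]⟩, ⟨PullbackCone.IsLimit.mk _ (fun s => s.fst)
      (fun s => Category.comp_id _) (fun s => by
        rw [← cancel_mono V.ι, Category.assoc, Scheme.Hom.resLE_comp_ι]; exact s.condition)
      (fun s m h₁ _ => by rw [← h₁, Category.comp_id])⟩⟩
  haveI : Flat fU := MorphismProperty.of_isPullback (P := @Flat) hsq inferInstance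
  haveI : LocallyOfFinitePresentation fU :=
    MorphismProperty.of_isPullback (P := @LocallyOfFinitePresentation) hsq inferInstance
  haveI : IsAffine U.toScheme := hU
  haveI : IsAffine V.toScheme := hV
  have hn : Nrm fU ⟨x, hxU⟩ := Nrm.restrict (i := V.ι) (j := U.ι) (Scheme.Hom.resLE_comp_ι _ _) (nrm_of_rkCond f x h)
  obtain ⟨X₀, S₀, f₀, g, g', hX₀, hS₀, sq, hft, hlft, hfl⟩ := S9759.result fU
  haveI : IsNoetherianRing Γ(S₀, ⊤) := Algebra.FiniteType.isNoetherianRing ℤ _
  have sq' : IsPullback g' fU (f₀ ≫ S₀.isoSpec.hom) (g ≫ S₀.isoSpec.hom) := by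
    refine sq.of_iso (Iso.refl _) (Iso.refl _) (Iso.refl _) S₀.isoSpec ?_ ?_ ?_ ?_ <;> simp
  have hb := isGeomUnibranch_of_model (f₀ ≫ S₀.isoSpec.hom) sq' ⟨x, hxU⟩ hn
    (UnibEtale.isGeomUnibranch_of_ringEquiv (asIso (V.ι.stalkMap (fU ⟨x, hxU⟩))).commRingCatIsoToRingEquiv (by
      rw [← Scheme.Hom.comp_apply, Scheme.Hom.resLE_comp_ι]
      exact hY))
  exact UnibEtale.isGeomUnibranch_of_ringEquiv (asIso (U.ι.stalkMap ⟨x, hxU⟩)).commRingCatIsoToRingEquiv.symm hb

end Groth.Agent.UnibNormal5
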