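import Groth.Agent.Codepth5.GeomNormal
import Groth.Agent.RadBir5.Points
import Groth.Agent.Hensel.HenselizationNormal
import Groth.Agent.GrpSchLib.GeomIrr
import Groth.Prelude.Def_EGA4b

/-!
# Geometric normality of fibres through field valued points
-/

set_option autoImplicit false
set_option linter.style.haveILetI false
set_option backward.isDefEq.respectTransparency false
set_option backward.isDefEq.respectTransparency.types false

universe u

open CategoryTheory CategoryTheory.Limits AlgebraicGeometry TopologicalSpace TensorProduct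

namespace Groth.Agent.UnibNormal5

open Codepth5

/-- A normal local domain. -/
def Normal (R : Type u) [CommRing R] : Prop := IsDomain R ∧ IsIntegrallyClosed R

theorem Normal.congr {R T : Type u} [CommRing R] [CommRing T] (e : R ≃+* T) (h : Normal R) : Normal T := by
  obtain ⟨hd, hn⟩ := h
  haveI := hd
  haveI := hn
  exact ⟨e.symm.toMulEquiv.isDomain _, IsIntegrallyClosed.of_equiv (R := R) e⟩

theorem Normal.of_flat {Z W : Scheme.{u}} (q : Z ⟶ W) [Flat q] (z : Z) (h : Normal (Z.presheaf.stalk z)) :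
    Normal (W.presheaf.stalk (q z)) := by
  obtain ⟨hd, hn⟩ := h
  haveI := hd
  haveI := hn
  letI := (q.stalkMap z).hom.toAlgebra
  haveI : Module.FaithfullyFlat (W.presheaf.stalk (q z)) (Z.presheaf.stalk z) :=
    @Module.FaithfullyFlat.of_flat_of_isLocalHom _ _ _ _ _ _ _ (Flat.stalkMap q z) (q.toLRSHom.prop z)
  exact Hensel.isIntegrallyClosed_of_faithfullyFlat (W.presheaf.stalk (q z)) (Z.presheaf.stalk z)

theorem Normal.of_iso {Z W : Scheme.{u}} (q : Z ⟶ W) [IsOpenImmersion q] (z : Z)
    (h : Normal (W.presheaf.stalk (q z))) : Normal (Z.presheaf.stalk z) :=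
  h.congr (asIso (q.stalkMap z)).commRingCatIsoToRingEquiv

variable {X Y : Scheme.{u}}

/-- The fibre is geometrically normal at `x`, read on all field valued points of the base. -/
def Nrm (f : X ⟶ Y) (x : X) : Prop :=
  ∀ (K : Type u) [Field K] (t : Spec (CommRingCat.of K) ⟶ Y) (z : ↥(pullback f t)),
    pullback.fst f t z = x → Normal ((pullback f t).presheaf.stalk z)

theorem isPullback_bc (f : X ⟶ Y) (y : Y) (K : Type u) [Field K]
    [Algebra (IsLocalRing.ResidueField (Y.presheaf.stalk y)) K] :
    IsPullback (FBase.bcπ (f.fiberToSpecResidueField y) K ≫ f.fiberι y)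
      (FBase.bcStr (f.fiberToSpecResidueField y) K) f
      (Spec.map (CommRingCat.ofHom (algebraMap (IsLocalRing.ResidueField (Y.presheaf.stalk y)) K)) ≫
        Y.fromSpecResidueField y) :=
  (IsPullback.of_hasPullback _ _).paste_horiz (IsPullback.of_hasPullback _ _)

theorem nrm_of_rkCond (f : X ⟶ Y) [LocallyOfFinitePresentation f] (x : X)
    (h : RkCond f 1 x ∧ FibP (SkR 2) f x) : Nrm f x := by
  intro K _ t z hz
  have hy : t (IsLocalRing.closedPoint K) = f x := by
    rw [Subsingleton.elim (IsLocalRing.closedPoint K) (pullback.snd f t z), ← hz,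
      ← Scheme.Hom.comp_apply, ← Scheme.Hom.comp_apply, pullback.condition]
  obtain ⟨φ, rfl⟩ := RadBir5.exists_eq t hy
  letI : Algebra (IsLocalRing.ResidueField (Y.presheaf.stalk (f x))) K := φ.hom.toAlgebra
  let e := (isPullback_bc f (f x) K).isoPullback
  obtain ⟨x', rfl⟩ : ∃ x', e.hom x' = z := ⟨e.inv z, by rw [← Scheme.Hom.comp_apply, e.inv_hom_id]; rfl⟩
  have hx' : FBase.bcπ (f.fiberToSpecResidueField (f x)) K x' = f.asFiber x := by
    apply (f.fiberι (f x)).isEmbedding.injective
    rw [Scheme.Hom.fiberι_asFiber]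
    refine Eq.trans ?_ hz
    exact congrArg (fun m : FBase.bc (f.fiberToSpecResidueField (f x)) K ⟶ X => m x') (isPullback_bc f (f x) K).isoPullback_hom_fst.symm
  exact Normal.congr (asIso (e.hom.stalkMap x')).commRingCatIsoToRingEquiv.symm
    ((normal_all_iff f x).2 h K x' hx')

theorem rkCond_of_nrm (f : X ⟶ Y) [LocallyOfFinitePresentation f] (x : X) (h : Nrm f x) :
    RkCond f 1 x ∧ FibP (SkR 2) f x := by
  refine (normal_all_iff f x).1 fun K _ _ x' hx' => ?_
  let e := (isPullback_bc f (f x) K).isoPullback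
  refine Normal.congr (asIso (e.hom.stalkMap x')).commRingCatIsoToRingEquiv (h K _ (e.hom x') ?_)
  show (e.hom ≫ pullback.fst f _) x' = x
  have hfac := (isPullback_bc f (f x) K).isoPullback_hom_fst
  erw [hfac]
  rw [Scheme.Hom.comp_apply, hx', Scheme.Hom.fiberι_asFiber]

/-- Geometric normality descends along base change. -/
theorem Nrm.descend {X₀ Y₀ : Scheme.{u}} {f : X ⟶ Y} {f₀ : X₀ ⟶ Y₀} {g : Y ⟶ Y₀} {g' : X ⟶ X₀}
    (sq : IsPullback g' f f₀ g) {x : X} (h : Nrm f x) : Nrm f₀ (g' x) := by
  intro K _ t z hz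
  obtain ⟨w, hw₁, hw₂⟩ := Scheme.Pullback.exists_preimage_pullback (f := g') (g := pullback.fst f₀ t) x z hz.symm
  let T := pullback g' (pullback.fst f₀ t)
  let L : Type u := T.residueField w
  let a : Spec (CommRingCat.of L) ⟶ T := T.fromSpecResidueField w
  let tL : Spec (CommRingCat.of L) ⟶ Y := a ≫ pullback.fst _ _ ≫ f
  let β : Spec (CommRingCat.of L) ⟶ Spec (CommRingCat.of K) := a ≫ pullback.snd _ _ ≫ pullback.snd f₀ t
  have hβ : β ≫ t = tL ≫ g := by
    simp only [β, tL, Category.assoc]
    rw [← sq.w, ← pullback.condition, reassoc_of% (pullback.condition (f := g') (g := pullback.fst f₀ t))]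
  let Φ : pullback f tL ⟶ pullback f₀ t := pullback.lift (pullback.fst f tL ≫ g') (pullback.snd f tL ≫ β)
    (by rw [Category.assoc, Category.assoc, hβ, sq.w, reassoc_of% pullback.condition])
  have hsq : IsPullback Φ (pullback.snd f tL) (pullback.snd f₀ t) β :=
    IsPullback.of_right (by
      rw [pullback.lift_fst, hβ]
      exact (IsPullback.of_hasPullback f tL).paste_horiz sq) (pullback.lift_snd _ _ _)
      (IsPullback.of_hasPullback f₀ t)
  haveI : Flat β := by
    obtain ⟨b, hb⟩ := Spec.map_surjective β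
    rw [← hb]
    exact GrpSchLib.flat_spec_map_field b.hom
  haveI : Flat Φ := MorphismProperty.of_isPullback (P := @Flat) hsq.flip inferInstance
  let l : Spec (CommRingCat.of L) ⟶ pullback f tL :=
    pullback.lift (a ≫ pullback.fst _ _) (𝟙 _) (by simp [tL])
  have hl : l ≫ Φ = a ≫ pullback.snd _ _ := by
    apply pullback.hom_ext
    · simp [Φ, l, pullback.condition]
    · simp [Φ, l, β]
      exact Category.id_comp _
  let q := l (IsLocalRing.closedPoint L)
  have hq : pullback.fst f tL q = x := by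
    show (l ≫ pullback.fst f tL) (IsLocalRing.closedPoint L) = x
    rw [pullback.lift_fst, Scheme.Hom.comp_apply]
    exact (congrArg (fun v => pullback.fst g' (pullback.fst f₀ t) v) (Scheme.fromSpecResidueField_apply _ _)).trans hw₁
  have hn := Normal.of_flat Φ q (h L tL q hq)
  have he : Φ q = z := by
    show (l ≫ Φ) (IsLocalRing.closedPoint L) = z
    rw [hl, Scheme.Hom.comp_apply]
    exact (congrArg (fun v => pullback.snd g' (pullback.fst f₀ t) v) (Scheme.fromSpecResidueField_apply _ _)).trans hw₂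
  rwa [he] at hn

/-- Geometric normality restricts to opens. -/
theorem Nrm.restrict {U V : Scheme.{u}} {f : X ⟶ Y} {f' : U ⟶ V} {j : U ⟶ X} {i : V ⟶ Y}
    [IsOpenImmersion j] [Mono i] (w : f' ≫ i = j ≫ f) {u : U} (h : Nrm f (j u)) : Nrm f' u := by
  intro K _ t z hz
  let Φ := pullback.map f' t f (t ≫ i) j (𝟙 _) i w (by simp)
  have h1 : Φ ≫ pullback.fst f (t ≫ i) = pullback.fst f' t ≫ j := pullback.lift_fst _ _ _
  refine Normal.of_iso Φ z (h K _ (Φ z) ?_)
  rw [← Scheme.Hom.comp_apply, h1, Scheme.Hom.comp_apply, hz]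

/-- A flat algebra with geometrically normal points has normal homomorphism. -/
theorem isNormalHom_of_nrm (A B : Type u) [CommRing A] [CommRing B] [Algebra A B] [Module.Flat A B]
    (h : ∀ x, Nrm (Spec.map (CommRingCat.ofHom (algebraMap A B))) x) : EGA4.IsNormalHom A B := by
  refine ⟨inferInstance, fun p _ K _ _ _ P _ => ?_⟩
  letI : Algebra A K := ((algebraMap p.ResidueField K).comp (algebraMap A p.ResidueField)).toAlgebra
  haveI : IsScalarTower A p.ResidueField K := IsScalarTower.of_algebraMap_eq' rfl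
  let e : K ⊗[p.ResidueField] p.Fiber B ≃+* B ⊗[A] K :=
    (Algebra.TensorProduct.cancelBaseChange A p.ResidueField K K B).toRingEquiv.trans
      (Algebra.TensorProduct.comm A K B).toRingEquiv
  let i := (pullbackSpecIso A B K).inv
  let Q : Ideal (B ⊗[A] K) := P.map e
  haveI : Q.IsPrime := Ideal.map_isPrime_of_equiv e
  have hS := h _ K (Spec.map (CommRingCat.ofHom (algebraMap A K))) (i ⟨Q, inferInstance⟩) rfl
  have h1 : Normal ((Spec (CommRingCat.of (B ⊗[A] K))).presheaf.stalk (⟨Q, inferInstance⟩ : PrimeSpectrum (B ⊗[A] K))) :=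
    Normal.of_iso i _ hS
  have h2 := h1.congr (Spec.stalkIso (CommRingCat.of (B ⊗[A] K)) (⟨Q, inferInstance⟩ : PrimeSpectrum (B ⊗[A] K))).commRingCatIsoToRingEquiv
  have hQP : ∀ y, e y ∈ Q ↔ y ∈ P := fun y => by
    refine ⟨fun hQ => ?_, fun hy => Ideal.mem_map_of_mem e hy⟩
    obtain ⟨y', hy, hyx⟩ := (Ideal.mem_map_iff_of_surjective e e.surjective).1 hQ
    exact e.injective hyx ▸ hy
  exact h2.congr (IsLocalization.ringEquivOfRingEquiv (M := P.primeCompl) (T := Q.primeCompl)
    (Localization.AtPrime P) (Localization.AtPrime Q) e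
    (Submonoid.ext fun x => by
      constructor
      · rintro ⟨y, hy, rfl⟩ hQ
        exact hy ((hQP y).1 hQ)
      · intro hx
        exact ⟨e.symm x, fun hP => hx (by simpa using (hQP _).2 hP), e.apply_symm_apply x⟩)).symm

end Groth.Agent.UnibNormal5
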